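import Mathlib
import Cfsg.Agent.Lib.SympGen

/-!
Coordinates in `Sp₄(F)` along the stabiliser of a line: lower and upper Heisenberg elements,
the Levi factor `F* × SL₂(F)` and the decomposition of an element whose corner entry is `1`.
The coordinates are `(e, w, f, w')` in the order `inl 0, inl 1, inr 0, inr 1`.
-/

set_option autoImplicit false

namespace CfsgLib.Sp4CC

open Matrix
open CfsgLib.SympGen (B bas)

variable {F : Type*} [Field F]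

local notation "M2" => Matrix (Fin 2) (Fin 2) F
local notation "M4" => Matrix (Fin 2 ⊕ Fin 2) (Fin 2 ⊕ Fin 2) F
local notation "Sp4" => Matrix.symplecticGroup (Fin 2) F
local notation "S2" => Matrix.SpecialLinearGroup (Fin 2) F

/-- A matrix from its sixteen entries, row by row. -/
def m4 (a00 a01 a02 a03 a10 a11 a12 a13 a20 a21 a22 a23 a30 a31 a32 a33 : F) : M4 :=
  Matrix.fromBlocks !![a00, a01; a10, a11] !![a02, a03; a12, a13]
    !![a20, a21; a30, a31] !![a22, a23; a32, a33]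

theorem m4_mul (a00 a01 a02 a03 a10 a11 a12 a13 a20 a21 a22 a23 a30 a31 a32 a33
    b00 b01 b02 b03 b10 b11 b12 b13 b20 b21 b22 b23 b30 b31 b32 b33 : F) :
    m4 a00 a01 a02 a03 a10 a11 a12 a13 a20 a21 a22 a23 a30 a31 a32 a33 *
      m4 b00 b01 b02 b03 b10 b11 b12 b13 b20 b21 b22 b23 b30 b31 b32 b33 =
    m4 (a00*b00+a01*b10+a02*b20+a03*b30) (a00*b01+a01*b11+a02*b21+a03*b31)
       (a00*b02+a01*b12+a02*b22+a03*b32) (a00*b03+a01*b13+a02*b23+a03*b33)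
       (a10*b00+a11*b10+a12*b20+a13*b30) (a10*b01+a11*b11+a12*b21+a13*b31)
       (a10*b02+a11*b12+a12*b22+a13*b32) (a10*b03+a11*b13+a12*b23+a13*b33)
       (a20*b00+a21*b10+a22*b20+a23*b30) (a20*b01+a21*b11+a22*b21+a23*b31)
       (a20*b02+a21*b12+a22*b22+a23*b32) (a20*b03+a21*b13+a22*b23+a23*b33)
       (a30*b00+a31*b10+a32*b20+a33*b30) (a30*b01+a31*b11+a32*b21+a33*b31)
       (a30*b02+a31*b12+a32*b22+a33*b32) (a30*b03+a31*b13+a32*b23+a33*b33) := by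
  rw [m4, m4, Matrix.fromBlocks_multiply, m4]
  congr 1 <;> ext i j <;> fin_cases i <;> fin_cases j <;>
    simp [Matrix.mul_apply, Fin.sum_univ_two] <;> ring

theorem m4_transpose (a00 a01 a02 a03 a10 a11 a12 a13 a20 a21 a22 a23 a30 a31 a32 a33 : F) :
    (m4 a00 a01 a02 a03 a10 a11 a12 a13 a20 a21 a22 a23 a30 a31 a32 a33)ᵀ =
      m4 a00 a10 a20 a30 a01 a11 a21 a31 a02 a12 a22 a32 a03 a13 a23 a33 := by
  rw [m4, Matrix.fromBlocks_transpose, m4]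
  congr 1 <;> ext i j <;> fin_cases i <;> fin_cases j <;> rfl

theorem J_eq : Matrix.J (Fin 2) F = m4 0 0 (-1) 0 0 0 0 (-1) 1 0 0 0 0 1 0 0 := by
  rw [Matrix.J, m4]
  congr 1 <;> ext i j <;> fin_cases i <;> fin_cases j <;> simp

theorem one_eq : (1 : M4) = m4 1 0 0 0 0 1 0 0 0 0 1 0 0 0 0 1 := by
  rw [← Matrix.fromBlocks_one, m4]
  congr 1 <;> ext i j <;> fin_cases i <;> fin_cases j <;> rfl

theorem exists_m4 (A : M4) : ∃ a00 a01 a02 a03 a10 a11 a12 a13 a20 a21 a22 a23 a30 a31 a32 a33 : F,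
    A = m4 a00 a01 a02 a03 a10 a11 a12 a13 a20 a21 a22 a23 a30 a31 a32 a33 :=
  ⟨A (.inl 0) (.inl 0), A (.inl 0) (.inl 1), A (.inl 0) (.inr 0), A (.inl 0) (.inr 1),
   A (.inl 1) (.inl 0), A (.inl 1) (.inl 1), A (.inl 1) (.inr 0), A (.inl 1) (.inr 1),
   A (.inr 0) (.inl 0), A (.inr 0) (.inl 1), A (.inr 0) (.inr 0), A (.inr 0) (.inr 1),
   A (.inr 1) (.inl 0), A (.inr 1) (.inl 1), A (.inr 1) (.inr 0), A (.inr 1) (.inr 1), by
    ext (i | i) (j | j) <;> fin_cases i <;> fin_cases j <;> rfl⟩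

theorem m4_inj {a00 a01 a02 a03 a10 a11 a12 a13 a20 a21 a22 a23 a30 a31 a32 a33
    b00 b01 b02 b03 b10 b11 b12 b13 b20 b21 b22 b23 b30 b31 b32 b33 : F} :
    m4 a00 a01 a02 a03 a10 a11 a12 a13 a20 a21 a22 a23 a30 a31 a32 a33 =
      m4 b00 b01 b02 b03 b10 b11 b12 b13 b20 b21 b22 b23 b30 b31 b32 b33 ↔
    (a00 = b00 ∧ a01 = b01 ∧ a02 = b02 ∧ a03 = b03) ∧ (a10 = b10 ∧ a11 = b11 ∧ a12 = b12 ∧ a13 = b13) ∧
    (a20 = b20 ∧ a21 = b21 ∧ a22 = b22 ∧ a23 = b23) ∧ (a30 = b30 ∧ a31 = b31 ∧ a32 = b32 ∧ a33 = b33) := by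
  simp only [m4, Matrix.fromBlocks_inj, ← Matrix.ext_iff, Fin.forall_fin_two]
  simp
  tauto

/-- Membership in the symplectic group in coordinates. -/
theorem mem_of (A : M4) (h : Aᵀ * Matrix.J (Fin 2) F * A = Matrix.J (Fin 2) F) :
    A ∈ Matrix.symplecticGroup (Fin 2) F := SymplecticGroup.mem_iff'.mpr h

/-- The transpose, an anti-automorphism. -/
def tr (g : Sp4) : Sp4 := ⟨g.1ᵀ, SymplecticGroup.transpose_mem g.2⟩

theorem tr_mul (g h : Sp4) : tr (g * h) = tr h * tr g := Subtype.ext (Matrix.transpose_mul g.1 h.1)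

theorem tr_one : tr (1 : Sp4) = 1 := Subtype.ext Matrix.transpose_one

theorem tr_tr (g : Sp4) : tr (tr g) = g := Subtype.ext (Matrix.transpose_transpose g.1)

theorem tr_inv (g : Sp4) : tr g⁻¹ = (tr g)⁻¹ :=
  eq_inv_of_mul_eq_one_left (by rw [← tr_mul, mul_inv_cancel, tr_one])

/-- Upper Heisenberg elements. -/
def Uu (r s c : F) : Sp4 :=
  ⟨m4 1 r c s 0 1 s 0 0 0 1 0 0 0 (-r) 1, mem_of _ (by
    rw [J_eq, m4_transpose, m4_mul, m4_mul, m4_inj]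
    refine ⟨⟨?_, ?_, ?_, ?_⟩, ⟨?_, ?_, ?_, ?_⟩, ⟨?_, ?_, ?_, ?_⟩, ⟨?_, ?_, ?_, ?_⟩⟩ <;> ring)⟩

/-- Lower Heisenberg elements. -/
def Lw (r s c : F) : Sp4 := tr (Uu r s c)

theorem Uu_val (r s c : F) : (Uu r s c).1 = m4 1 r c s 0 1 s 0 0 0 1 0 0 0 (-r) 1 := rfl

theorem Lw_val (r s c : F) : (Lw r s c).1 = m4 1 0 0 0 r 1 0 0 c s 1 (-r) s 0 0 1 :=
  m4_transpose _ _ _ _ _ _ _ _ _ _ _ _ _ _ _ _

theorem det_eq_one (M : S2) : M.1 0 0 * M.1 1 1 - M.1 0 1 * M.1 1 0 = 1 := by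
  rw [← Matrix.det_fin_two]; exact M.2

/-- The Levi factor. -/
def LV (a : Fˣ) (M : S2) : Sp4 :=
  ⟨m4 (a : F) 0 0 0 0 (M.1 0 0) 0 (M.1 0 1) 0 0 ((a⁻¹ : Fˣ) : F) 0 0 (M.1 1 0) 0 (M.1 1 1), mem_of _ (by
    have hM := det_eq_one M
    have ha : (a : F) * ((a⁻¹ : Fˣ) : F) = 1 := a.mul_inv
    rw [J_eq, m4_transpose, m4_mul, m4_mul, m4_inj]
    refine ⟨⟨?_, ?_, ?_, ?_⟩, ⟨?_, ?_, ?_, ?_⟩, ⟨?_, ?_, ?_, ?_⟩, ⟨?_, ?_, ?_, ?_⟩⟩ <;>
      first
        | ring1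
        | linear_combination ha
        | linear_combination -ha
        | linear_combination hM
        | linear_combination -hM)⟩

theorem LV_val (a : Fˣ) (M : S2) : (LV a M).1 =
    m4 (a : F) 0 0 0 0 (M.1 0 0) 0 (M.1 0 1) 0 0 ((a⁻¹ : Fˣ) : F) 0 0 (M.1 1 0) 0 (M.1 1 1) := rfl

theorem LV_mul (a b : Fˣ) (M N : S2) : LV a M * LV b N = LV (a * b) (M * N) := by
  apply Subtype.ext
  show (LV a M).1 * (LV b N).1 = _
  rw [LV_val, LV_val, LV_val, m4_mul, m4_inj]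
  simp [Matrix.mul_apply, Fin.sum_univ_two, mul_comm]

theorem LV_one : LV (1 : Fˣ) (1 : S2) = 1 := by
  apply Subtype.ext
  show _ = (1 : M4)
  rw [LV_val, one_eq, m4_inj]
  simp

/-- The Levi factor as a homomorphism. -/
def LVhom : Fˣ × S2 →* Sp4 where
  toFun x := LV x.1 x.2
  map_one' := LV_one
  map_mul' x y := (LV_mul x.1 y.1 x.2 y.2).symm

theorem LV_inv (a : Fˣ) (M : S2) : (LV a M)⁻¹ = LV a⁻¹ M⁻¹ := (map_inv LVhom (a, M)).symm

theorem tr_LV (a : Fˣ) (M : S2) : tr (LV a M) = LV a ⟨M.1ᵀ, by rw [Matrix.det_transpose]; exact M.2⟩ :=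
  Subtype.ext (m4_transpose _ _ _ _ _ _ _ _ _ _ _ _ _ _ _ _)

theorem Uu_mul (r s c r' s' c' : F) :
    Uu r s c * Uu r' s' c' = Uu (r + r') (s + s') (c + c' + r * s' - s * r') := by
  apply Subtype.ext
  show (Uu r s c).1 * (Uu r' s' c').1 = _
  rw [Uu_val, Uu_val, Uu_val, m4_mul, m4_inj]
  refine ⟨⟨?_, ?_, ?_, ?_⟩, ⟨?_, ?_, ?_, ?_⟩, ⟨?_, ?_, ?_, ?_⟩, ⟨?_, ?_, ?_, ?_⟩⟩ <;> ring

theorem Uu_inv (r s c : F) : (Uu r s c)⁻¹ = Uu (-r) (-s) (-c) :=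
  inv_eq_of_mul_eq_one_right (by
    rw [Uu_mul]
    apply Subtype.ext
    show _ = (1 : M4)
    rw [Uu_val, one_eq, m4_inj]
    simp [mul_comm])

theorem Lw_inv (r s c : F) : (Lw r s c)⁻¹ = Lw (-r) (-s) (-c) := by
  rw [Lw, ← tr_inv, Uu_inv]
  rfl

/-- Moving an upper element through the Levi factor. -/
theorem LV_Uu (a : Fˣ) (M : S2) {r s r' s' : F} (c : F)
    (h0 : r' * M.1 0 0 + s' * M.1 1 0 = a * r) (h1 : r' * M.1 0 1 + s' * M.1 1 1 = a * s) :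
    LV a M * Uu r s c = Uu r' s' ((a : F) ^ 2 * c) * LV a M := by
  have hM := det_eq_one M
  have ha : (a : F) * ((a⁻¹ : Fˣ) : F) = 1 := a.mul_inv
  apply Subtype.ext
  show (LV a M).1 * (Uu r s c).1 = (Uu r' s' ((a : F) ^ 2 * c)).1 * (LV a M).1
  rw [Uu_val, Uu_val, LV_val, m4_mul, m4_mul, m4_inj]
  refine ⟨⟨?_, ?_, ?_, ?_⟩, ⟨?_, ?_, ?_, ?_⟩, ⟨?_, ?_, ?_, ?_⟩, ⟨?_, ?_, ?_, ?_⟩⟩ <;>
    first
      | ring1
      | linear_combination h0
      | linear_combination -h0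
      | linear_combination h1
      | linear_combination -h1
      | linear_combination (-(a : F) * c) * ha
      | linear_combination ((a⁻¹ : Fˣ) : F) * M.1 0 0 * (-h1) + ((a⁻¹ : Fˣ) : F) * M.1 0 1 * h0 +
          (s' * ((a⁻¹ : Fˣ) : F)) * hM - (M.1 0 0 * s - M.1 0 1 * r) * ha
      | linear_combination ((a⁻¹ : Fˣ) : F) * M.1 1 0 * (-h1) + ((a⁻¹ : Fˣ) : F) * M.1 1 1 * h0 +
          (-r' * ((a⁻¹ : Fˣ) : F)) * hM - (M.1 1 0 * s - M.1 1 1 * r) * ha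

/-- An element with trivial first row and column lies in `SL₂`. -/
theorem diag_form (D : Sp4) {a11 a12 a13 a21 a22 a23 a31 a32 a33 : F}
    (h : D.1 = m4 1 0 0 0 0 a11 a12 a13 0 a21 a22 a23 0 a31 a32 a33) :
    ∃ M : S2, D = LV 1 M ∧ M.1 0 0 = a11 ∧ M.1 0 1 = a13 ∧ M.1 1 0 = a31 ∧ M.1 1 1 = a33 := by
  have e1 : D.1ᵀ * Matrix.J (Fin 2) F * D.1 = Matrix.J (Fin 2) F := SymplecticGroup.mem_iff'.mp D.2
  have e2 : D.1 * Matrix.J (Fin 2) F * D.1ᵀ = Matrix.J (Fin 2) F := SymplecticGroup.mem_iff.mp D.2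
  rw [h, J_eq, m4_transpose, m4_mul, m4_mul, m4_inj] at e1 e2
  simp only [mul_zero, zero_mul, add_zero, zero_add, one_mul, mul_one, mul_neg, neg_mul, neg_zero] at e1 e2
  obtain ⟨⟨-, p1, p2, p3⟩, ⟨-, -, -, p4⟩, -, -⟩ := e1
  obtain ⟨⟨-, q1, q2, q3⟩, -, -, -⟩ := e2
  have h21 : a21 = 0 := by linear_combination -p1
  have h22 : a22 = 1 := by linear_combination -p2
  have h23 : a23 = 0 := by linear_combination -p3
  have h12 : a12 = 0 := by linear_combination -q1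
  have h32 : a32 = 0 := by linear_combination -q3
  subst h21 h22 h23 h12 h32
  refine ⟨⟨!![a11, a13; a31, a33], by rw [Matrix.det_fin_two_of]; linear_combination -p4⟩,
    Subtype.ext (h.trans ?_), rfl, rfl, rfl, rfl⟩
  show _ = m4 ((1 : Fˣ) : F) 0 0 0 0 a11 0 a13 0 0 (((1 : Fˣ)⁻¹ : Fˣ) : F) 0 0 a31 0 a33
  rw [inv_one, Units.val_one]

/-- The decomposition of an element whose corner entry is one. -/
theorem decompose (G : Sp4)
    {g01 g02 g03 g10 g11 g12 g13 g20 g21 g22 g23 g30 g31 g32 g33 : F}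
    (h : G.1 = m4 1 g01 g02 g03 g10 g11 g12 g13 g20 g21 g22 g23 g30 g31 g32 g33) :
    ∃ M : S2, G = Lw g10 g30 g20 * LV 1 M * Uu g01 g03 g02 ∧
      M.1 0 0 = g11 - g10 * g01 ∧ M.1 0 1 = g13 - g10 * g03 ∧
      M.1 1 0 = g31 - g30 * g01 ∧ M.1 1 1 = g33 - g30 * g03 := by
  set D := (Lw g10 g30 g20)⁻¹ * G * (Uu g01 g03 g02)⁻¹ with hD
  have hv : D.1 = (Lw (-g10) (-g30) (-g20)).1 * G.1 * (Uu (-g01) (-g03) (-g02)).1 := by
    rw [hD, Lw_inv, Uu_inv]; rfl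
  rw [Lw_val, h, Uu_val, m4_mul, m4_mul] at hv
  ring_nf at hv
  obtain ⟨M, hM, e00, e01, e10, e11⟩ := diag_form D hv
  exact ⟨M, by rw [← hM, hD]; group, by linear_combination e00, by linear_combination e01,
    by linear_combination e10, by linear_combination e11⟩

theorem B_apply (u v : Fin 2 ⊕ Fin 2 → F) : B u v =
    u (.inr 0) * v (.inl 0) + u (.inr 1) * v (.inl 1) - u (.inl 0) * v (.inr 0) -
      u (.inl 1) * v (.inr 1) := by
  simp [B, Matrix.mulVec, dotProduct, Matrix.J, Matrix.fromBlocks, Fintype.sum_sum_type,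
    Fin.sum_univ_two, Matrix.one_apply]
  ring

theorem mulVec_bas (A : M4) (i j : Fin 2 ⊕ Fin 2) : (A *ᵥ bas j) i = A i j := by
  simp [bas]

/-- A matrix moving no line is scalar. -/
theorem exists_moved (A : M4) (h : ∀ r : F, A ≠ r • (1 : M4)) :
    ∃ v : Fin 2 ⊕ Fin 2 → F, v ≠ 0 ∧ ∀ r : F, A *ᵥ v ≠ r • v := by
  by_contra hc
  push Not at hc
  choose μ hμ using fun i => hc (bas i) (fun e => by simpa [bas] using congrFun e i)
  have hent : ∀ i j, A i j = if i = j then μ j else 0 := fun i j => by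
    rw [← mulVec_bas A i j, hμ j]
    by_cases e : i = j <;> simp [bas, e]
  have heq : ∀ i j, μ i = μ j := by
    intro i j
    by_cases hij : i = j
    · rw [hij]
    obtain ⟨r, hr⟩ := hc (bas i + bas j) (fun e => by
      have := congrFun e i
      simp [bas, hij] at this)
    rw [Matrix.mulVec_add, hμ i, hμ j] at hr
    have e1 := congrFun hr i
    have e2 := congrFun hr j
    simp [bas, hij, Ne.symm hij] at e1 e2
    rw [e1, e2]
  refine h (μ (.inl 0)) ?_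
  ext i j
  rw [hent, Matrix.smul_apply, Matrix.one_apply]
  by_cases e : i = j <;> simp [e, heq j (.inl 0)]

/-- Every non-scalar element is conjugate to one with corner entry one and non-trivial first column. -/
theorem normal_form (g : Sp4) (hg : ∀ r : F, g.1 ≠ r • (1 : M4)) :
    ∃ (k : Sp4) (r s c r' s' c' : F) (M : S2), (r ≠ 0 ∨ s ≠ 0 ∨ c ≠ 0) ∧
      k * g * k⁻¹ = Lw r s c * LV 1 M * Uu r' s' c' := by
  obtain ⟨e, he0, he⟩ := exists_moved g.1 hg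
  obtain ⟨z, hz⟩ := SympTransvection.exists_dot_ne he0
  set z₀ : Fin 2 ⊕ Fin 2 → F := (-(B z e)⁻¹) • z with hz₀
  have hez : B e z₀ = 1 := by
    rw [hz₀, SympGen.B_smul_right, SympGen.B_swap e z, neg_mul_neg,
      inv_mul_cancel₀ (show B z e ≠ 0 from hz)]
  obtain ⟨f, hef, hgf⟩ : ∃ f, B e f = 1 ∧ B (g.1 *ᵥ e) f = 1 := by
    set u := g.1 *ᵥ e - B (g.1 *ᵥ e) z₀ • e with hu
    have hu0 : u ≠ 0 := fun h0 => he _ (sub_eq_zero.mp h0)
    obtain ⟨w, hw⟩ := SympTransvection.exists_dot_ne hu0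
    have hw' : B u w ≠ 0 := fun h0 => hw (by
      show B w u = 0
      rw [SympGen.B_swap, h0, neg_zero])
    have key : B (g.1 *ᵥ e) w - B (g.1 *ᵥ e) z₀ * B e w = B u w := by
      rw [hu, SympGen.B_sub_left, SympGen.B_smul_left]
    refine ⟨z₀ + ((1 - B (g.1 *ᵥ e) z₀) / B u w) • (w - B e w • z₀), ?_, ?_⟩
    · simp [SympGen.B_add_right, SympGen.B_smul_right, SympGen.B_sub_right, hez]
    · simp only [SympGen.B_add_right, SympGen.B_smul_right, SympGen.B_sub_right]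
      rw [show B (g.1 *ᵥ e) w - B e w * B (g.1 *ᵥ e) z₀ = B u w by rw [← key]; ring,
        div_mul_cancel₀ _ hw']
      ring
  have h01 : B (bas (F := F) (Sum.inl (0 : Fin 2))) (-bas (Sum.inr 0)) = 1 := by
    rw [B_apply]; simp [bas]
  obtain ⟨k, -, hke, hkf, -⟩ := SympGen.pair hef h01
  have hback : (k * g * k⁻¹).1 *ᵥ bas (Sum.inl 0) = k.1 *ᵥ (g.1 *ᵥ e) := by
    rw [SympGen.mul_apply, SympGen.mul_apply, ← hke, ← SympGen.mul_apply k⁻¹ k, inv_mul_cancel,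
      SympGen.one_apply]
  have h00 : (k * g * k⁻¹).1 (.inl 0) (.inl 0) = 1 := by
    rw [← mulVec_bas (k * g * k⁻¹).1, hback]
    have := SympGen.B_map k (g.1 *ᵥ e) f
    rw [hkf, hgf, B_apply] at this
    simpa [bas] using this
  obtain ⟨g00, g01, g02, g03, g10, g11, g12, g13, g20, g21, g22, g23, g30, g31, g32, g33, hG⟩ :=
    exists_m4 (k * g * k⁻¹).1
  obtain rfl : g00 = 1 := by rw [← h00, hG]; rfl
  obtain ⟨M, hM, -⟩ := decompose _ hG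
  refine ⟨k, g10, g30, g20, g01, g03, g02, M, ?_, hM⟩
  by_contra hc
  push Not at hc
  obtain ⟨rfl, rfl, rfl⟩ := hc
  have hcol : (k * g * k⁻¹).1 *ᵥ bas (Sum.inl 0) = bas (Sum.inl 0) := by
    ext i
    rw [mulVec_bas, hG]
    rcases i with i | i <;> fin_cases i <;> simp [m4, bas]
  apply he 1
  rw [one_smul]
  rw [hback] at hcol
  have h2 := congrArg (fun v => (k⁻¹).1 *ᵥ v) (hcol.trans hke.symm)
  simpa only [← SympGen.mul_apply, ← mul_assoc, inv_mul_cancel, one_mul, SympGen.one_apply] using h2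

/-- Conjugation by the `SL₂` part. -/
theorem conj_LV (P M : S2) (r s c r' s' c' : F) :
    ∃ t u t' u' : F, LV 1 P * (Lw r s c * LV 1 M * Uu r' s' c') * (LV 1 P)⁻¹ =
      Lw t u c * LV 1 (P * M * P⁻¹) * Uu t' u' c' := by
  have hP := det_eq_one P
  set PT : S2 := ⟨P.1ᵀ, by rw [Matrix.det_transpose]; exact P.2⟩ with hPT
  have hU : ∀ (Q : S2) (r s c : F), ∃ t u : F, LV 1 Q * Uu r s c = Uu t u c * LV 1 Q := fun Q r s c => by
    have hQ := det_eq_one Q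
    refine ⟨r * Q.1 1 1 - s * Q.1 1 0, -r * Q.1 0 1 + s * Q.1 0 0, ?_⟩
    rw [LV_Uu 1 Q (r' := r * Q.1 1 1 - s * Q.1 1 0) (s' := -r * Q.1 0 1 + s * Q.1 0 0) c
      (by rw [Units.val_one]; linear_combination r * hQ) (by rw [Units.val_one]; linear_combination s * hQ)]
    rw [Units.val_one, one_pow, one_mul]
  obtain ⟨t', u', hu⟩ := hU P r' s' c'
  obtain ⟨t, u, hl⟩ := hU PT⁻¹ r s c
  have hl' : Lw r s c * LV 1 P⁻¹ = LV 1 P⁻¹ * Lw t u c := by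
    have e : tr (LV (1 : Fˣ) PT⁻¹) = LV 1 P⁻¹ := by
      have : tr (LV (1 : Fˣ) P) = LV 1 PT := tr_LV 1 P
      rw [← inv_one, ← LV_inv, ← LV_inv, tr_inv, ← this, tr_tr]
    have := congrArg tr hl
    rw [tr_mul, tr_mul, e] at this
    exact this
  refine ⟨t, u, t', u', ?_⟩
  have e1 : LV 1 P * Lw r s c = Lw t u c * LV 1 P := by
    have : LV (1 : Fˣ) P⁻¹ = (LV 1 P)⁻¹ := by rw [LV_inv, inv_one]
    rw [this] at hl'
    calc LV 1 P * Lw r s c = LV 1 P * (Lw r s c * (LV 1 P)⁻¹) * LV 1 P := by group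
      _ = _ := by rw [hl']; group
  calc LV 1 P * (Lw r s c * LV 1 M * Uu r' s' c') * (LV 1 P)⁻¹
      = (LV 1 P * Lw r s c) * LV 1 M * (LV 1 P)⁻¹ * (LV 1 P * Uu r' s' c') * (LV 1 P)⁻¹ := by group
    _ = Lw t u c * (LV 1 P * LV 1 M * (LV 1 P)⁻¹) * Uu t' u' c' := by rw [e1, hu]; group
    _ = _ := by rw [LV_inv, LV_mul, LV_mul, inv_one, one_mul, one_mul]

/-- Conjugation by an upper element keeping the corner entry. -/
theorem shift (M : S2) (r s c r' s' c' ρ σ γ : F) (h : ρ * r + γ * c + σ * s = 0) :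
    ∃ (k : Sp4) (r1 s1 c1 r2 s2 c2 : F) (N : S2),
      k * (Lw r s c * LV 1 M * Uu r' s' c') * k⁻¹ = Lw r1 s1 c1 * LV 1 (N * M) * Uu r2 s2 c2 ∧
      N.1 0 0 = 1 + σ * s - (r + σ * c) * (ρ + γ * s) ∧
      N.1 0 1 = -σ * r - (r + σ * c) * (σ - γ * r) ∧
      N.1 1 0 = -ρ * s - (s - ρ * c) * (ρ + γ * s) ∧
      N.1 1 1 = 1 + ρ * r - (s - ρ * c) * (σ - γ * r) := by
  have hv : (Uu ρ σ γ * Lw r s c).1 = m4 1 (ρ + γ * s) γ (σ - γ * r)
      (r + σ * c) (1 + σ * s) σ (-σ * r) c s 1 (-r)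
      (s - ρ * c) (-ρ * s) (-ρ) (1 + ρ * r) := by
    show (Uu ρ σ γ).1 * (Lw r s c).1 = _
    rw [Uu_val, Lw_val, m4_mul, m4_inj]
    refine ⟨⟨?_, ?_, ?_, ?_⟩, ⟨?_, ?_, ?_, ?_⟩, ⟨?_, ?_, ?_, ?_⟩, ⟨?_, ?_, ?_, ?_⟩⟩ <;>
      first
        | ring1
        | linear_combination h
  obtain ⟨N, hN, e00, e01, e10, e11⟩ := decompose _ hv
  set A := ρ + γ * s
  set C := σ - γ * r
  have hM := det_eq_one M
  have hU : LV (1 : Fˣ) M * Uu (A * M.1 0 0 + C * M.1 1 0) (A * M.1 0 1 + C * M.1 1 1) γ =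
      Uu A C γ * LV 1 M := by
    rw [LV_Uu 1 M (r' := A) (s' := C) γ (by rw [Units.val_one, one_mul]) (by rw [Units.val_one, one_mul]),
      Units.val_one, one_pow, one_mul]
  refine ⟨Uu ρ σ γ, r + σ * c, s - ρ * c, c,
    A * M.1 0 0 + C * M.1 1 0 + (r' + -ρ), A * M.1 0 1 + C * M.1 1 1 + (s' + -σ),
    γ + (c' + -γ + r' * -σ - s' * -ρ) + (A * M.1 0 0 + C * M.1 1 0) * (s' + -σ) -
      (A * M.1 0 1 + C * M.1 1 1) * (r' + -ρ), N, ?_, e00, e01, e10, e11⟩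
  calc Uu ρ σ γ * (Lw r s c * LV 1 M * Uu r' s' c') * (Uu ρ σ γ)⁻¹
      = (Uu ρ σ γ * Lw r s c) * LV 1 M * (Uu r' s' c' * (Uu ρ σ γ)⁻¹) := by group
    _ = Lw (r + σ * c) (s - ρ * c) c * LV 1 N * (Uu A C γ * LV 1 M) *
        (Uu r' s' c' * (Uu ρ σ γ)⁻¹) := by rw [hN]; group
    _ = _ := by
      rw [← hU, Uu_inv, Uu_mul]
      rw [show LV (1 : Fˣ) (N * M) = LV 1 N * LV 1 M by rw [LV_mul, one_mul]]
      simp only [mul_assoc]
      rw [Uu_mul]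

end CfsgLib.Sp4CC
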