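import Mathlib
import Cfsg.Agent.Lib.GL2Classes

/-!
Facts on `2 × 2` matrices: conjugacy by trace, a prescribed corner entry, semisimplicity.
-/

set_option autoImplicit false

namespace CfsgLib.Sp4CC

open Matrix

variable {F : Type*} [Field F]

local notation "M2" => Matrix (Fin 2) (Fin 2) F
local notation "S2" => Matrix.SpecialLinearGroup (Fin 2) F

theorem conj_of_trace {τ d : F} (hn : ∀ Δ : F, Δ ≠ 0 → ∃ x y : F, x ^ 2 + τ * x * y + d * y ^ 2 = Δ)
    {X Y : M2} (hX : ∀ a : F, X ≠ a • (1 : M2)) (hY : ∀ a : F, Y ≠ a • (1 : M2))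
    (tX : X.trace = τ) (dX : X.det = d) (tY : Y.trace = τ) (dY : Y.det = d) :
    ∃ P : S2, P.1 * X = Y * P.1 := by
  obtain ⟨P₁, h₁⟩ := GL2Classes.exists_conj_comp hX
  obtain ⟨P₂, h₂⟩ := GL2Classes.exists_conj_comp hY
  rw [tX, dX] at h₁
  rw [tY, dY] at h₂
  have n₁ : P₁.1.det ≠ 0 := ((Matrix.isUnit_iff_isUnit_det _).mp P₁.isUnit).ne_zero
  have n₂ : P₂.1.det ≠ 0 := ((Matrix.isUnit_iff_isUnit_det _).mp P₂.isUnit).ne_zero
  obtain ⟨x, y, hxy⟩ := hn (P₁.1.det / P₂.1.det) (div_ne_zero n₁ n₂)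
  set Z : M2 := x • (1 : M2) + y • GL2Classes.comp τ d with hZ
  have hZd : Z.det = P₁.1.det / P₂.1.det := by
    rw [← hxy, hZ]
    simp [GL2Classes.comp, Matrix.det_fin_two]
    ring
  have hZc : GL2Classes.comp τ d * Z = Z * GL2Classes.comp τ d := by
    rw [hZ, Matrix.mul_add, Matrix.add_mul, Matrix.mul_smul, Matrix.mul_smul, Matrix.smul_mul,
      Matrix.smul_mul, Matrix.one_mul, Matrix.mul_one]
  refine ⟨⟨P₂.1 * Z * (P₁⁻¹).1, ?_⟩, ?_⟩
  · rw [Matrix.det_mul, Matrix.det_mul, hZd]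
    have h := congrArg Matrix.det (Units.mul_inv P₁)
    rw [Matrix.det_mul, Matrix.det_one] at h
    field_simp
    linear_combination h
  · show P₂.1 * Z * (P₁⁻¹).1 * X = Y * (P₂.1 * Z * (P₁⁻¹).1)
    have hP : (P₁⁻¹).1 * X = GL2Classes.comp τ d * (P₁⁻¹).1 := by
      have := congrArg (fun T => (P₁⁻¹).1 * T * (P₁⁻¹).1) h₁
      simpa [Matrix.mul_assoc] using this
    rw [Matrix.mul_assoc, hP, ← Matrix.mul_assoc, Matrix.mul_assoc P₂.1, ← hZc, ← Matrix.mul_assoc,
      ← h₂]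
    simp only [Matrix.mul_assoc]

/-- A prescribed corner entry of a non-scalar element. -/
theorem conj_val (P M : S2) : (P * M * P⁻¹).1 = P.1 * M.1 * P.1.adjugate := by
  rw [← Matrix.SpecialLinearGroup.coe_inv]; rfl

/-- A prescribed corner entry of a non-scalar element. -/
theorem conj00 (M : S2) (h : ∀ a : F, M.1 ≠ a • (1 : M2)) (η : F) :
    ∃ P : S2, (P * M * P⁻¹).1 0 0 = η := by
  have lower : ∀ M : S2, M.1 0 1 ≠ 0 → ∃ P : S2, (P * M * P⁻¹).1 0 0 = η := fun M h01 => by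
    obtain ⟨P, hP⟩ : ∃ P : S2, P.1 = !![1, 0; (M.1 0 0 - η) / M.1 0 1, 1] :=
      ⟨⟨_, by simp [Matrix.det_fin_two_of]⟩, rfl⟩
    refine ⟨P, ?_⟩
    rw [conj_val, hP]
    simp [Matrix.adjugate_fin_two, Matrix.mul_apply, Matrix.vecMul, dotProduct, Fin.sum_univ_two]
    field_simp
    ring
  by_cases h01 : M.1 0 1 = 0
  · obtain ⟨Q, hQ⟩ : ∃ Q : S2, (Q * M * Q⁻¹).1 0 1 ≠ 0 := by
      by_cases h10 : M.1 1 0 = 0
      · obtain ⟨Q, hQ⟩ : ∃ Q : S2, Q.1 = !![1, 1; 0, 1] := ⟨⟨_, by simp [Matrix.det_fin_two_of]⟩, rfl⟩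
        refine ⟨Q, ?_⟩
        rw [conj_val, hQ]
        simp [Matrix.adjugate_fin_two, Matrix.mul_apply, Matrix.vecMul, dotProduct, Fin.sum_univ_two, h01, h10]
        intro e
        apply h (M.1 0 0)
        ext i j
        fin_cases i <;> fin_cases j <;> simp [h01, h10]
        linear_combination e
      · obtain ⟨Q, hQ⟩ : ∃ Q : S2, Q.1 = !![0, 1; -1, 0] := ⟨⟨_, by simp [Matrix.det_fin_two_of]⟩, rfl⟩
        refine ⟨Q, ?_⟩
        rw [conj_val, hQ]
        simp [Matrix.adjugate_fin_two, Matrix.mul_apply, Matrix.vecMul, dotProduct, Fin.sum_univ_two, h10]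
    obtain ⟨P, hP⟩ := lower _ hQ
    refine ⟨P * Q, ?_⟩
    rw [← hP]
    congr 2
    group
  · exact lower M h01

theorem pow_span (A : M2) (k : ℕ) : ∃ α β : F, A ^ k = α • (1 : M2) + β • A := by
  induction k with
  | zero => exact ⟨1, 0, by simp⟩
  | succ k ih =>
    obtain ⟨α, β, h⟩ := ih
    refine ⟨-(β * A.det), α + β * A.trace, ?_⟩
    rw [pow_succ, h]
    ext i j
    fin_cases i <;> fin_cases j <;>
      simp [Matrix.mul_apply, Fin.sum_univ_two, Matrix.det_fin_two, Matrix.trace_fin_two] <;> ring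

/-- Powers of a regular semisimple matrix have no unipotent part. -/
theorem ss_pow {p : ℕ} [Fact p.Prime] [CharP F p] {A : M2} {τ d : F} (hτ : A.trace = τ) (hd : A.det = d)
    (hdisc : τ ^ 2 - 4 * d ≠ 0) {k : ℕ} (h : (A ^ k) ^ p = 1) : A ^ k = 1 := by
  obtain ⟨α, β, hk⟩ := pow_span A k
  set w : M2 := A ^ k - 1 with hw
  have hwp : w ^ p = 0 := by rw [hw, sub_pow_char_of_commute _ (Commute.one_right _), h, one_pow, sub_self]
  have hdet : w.det = 0 := by
    have := congrArg Matrix.det hwp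
    rw [Matrix.det_pow, Matrix.det_zero] at this
    exact eq_zero_of_pow_eq_zero this
  have hsq : w ^ 2 = w.trace • w := by
    ext i j
    rw [Matrix.det_fin_two] at hdet
    fin_cases i <;> fin_cases j <;>
      simp [pow_two, Matrix.mul_apply, Fin.sum_univ_two, Matrix.trace_fin_two] <;>
      first
        | ring1
        | linear_combination hdet
        | linear_combination -hdet
  have hn : ∀ n : ℕ, w ^ (n + 1) = w.trace ^ n • w := fun n => by
    induction n with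
    | zero => simp
    | succ n ih => rw [pow_succ, ih, Matrix.smul_mul, ← pow_two, hsq, smul_smul, ← pow_succ]
  have htr : w.trace = 0 := by
    have hp := (Fact.out : p.Prime).two_le
    have h0 := congrArg Matrix.trace (hn (p - 1))
    rw [show p - 1 + 1 = p by omega, hwp, Matrix.trace_zero, Matrix.trace_smul, smul_eq_mul] at h0
    rcases mul_eq_zero.mp h0.symm with e | e
    · exact eq_zero_of_pow_eq_zero e
    · exact e
  rw [hw, hk] at htr hdet
  rw [Matrix.trace_fin_two] at htr hτ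
  rw [Matrix.det_fin_two] at hdet hd
  simp at htr hdet
  have hβ2 : β ^ 2 * (τ ^ 2 - 4 * d) = 0 := by
    rw [← hτ, ← hd]
    linear_combination (2 * (α - 1) + β * (A 0 0 + A 1 1)) * htr - 4 * hdet
  have hβ : β = 0 := by
    rcases mul_eq_zero.mp hβ2 with e | e
    · exact eq_zero_of_pow_eq_zero e
    · exact absurd e hdisc
  subst hβ
  simp at hdet
  rw [hk, zero_smul, add_zero, sub_eq_zero.mp hdet, one_smul]

end CfsgLib.Sp4CC

namespace CfsgLib.Sp4CC

open Matrix

variable {F : Type*} [Field F]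

local notation "M2" => Matrix (Fin 2) (Fin 2) F

/-- Transport of a solution from the companion frame. -/
theorem frame {L : M2} (hL : ∀ a : F, L ≠ a • (1 : M2)) {x y z τ : F} :
    ∃ X : M2, X.trace = τ ∧ X.det = x * (τ - x) - y * z ∧
      (X.adjugate * L).trace = z * L.det - y + x * L.trace := by
  obtain ⟨P, hP⟩ := GL2Classes.exists_conj_comp hL
  set X₀ : M2 := !![x, y; z, τ - x] with hX₀
  refine ⟨P.1 * X₀ * (P⁻¹).1, ?_, ?_, ?_⟩
  · rw [Matrix.trace_units_conj, hX₀, Matrix.trace_fin_two_of]; ring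
  · rw [Matrix.det_units_conj, hX₀, Matrix.det_fin_two_of]
  · have hadj : ∀ A : M2, A.adjugate = A.trace • (1 : M2) - A := fun A => by
      rw [Matrix.adjugate_fin_two]
      ext i j
      fin_cases i <;> fin_cases j <;> simp [Matrix.trace_fin_two]
    have hLc : L = P.1 * GL2Classes.comp L.trace L.det * (P⁻¹).1 := by
      rw [← hP, Matrix.mul_assoc, Units.mul_inv, Matrix.mul_one]
    have hA : (P.1 * X₀ * (P⁻¹).1).adjugate = P.1 * X₀.adjugate * (P⁻¹).1 := by
      rw [hadj, hadj X₀, Matrix.trace_units_conj, Matrix.mul_sub, Matrix.sub_mul, Matrix.mul_smul,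
        Matrix.smul_mul, Matrix.mul_one, Units.mul_inv]
    generalize L.trace = t at hLc ⊢
    generalize L.det = d at hLc ⊢
    rw [hA, hLc, show P.1 * X₀.adjugate * (P⁻¹).1 * (P.1 * GL2Classes.comp t d * (P⁻¹).1) =
      P.1 * (X₀.adjugate * GL2Classes.comp t d) * (P⁻¹).1 by simp [Matrix.mul_assoc],
      Matrix.trace_units_conj, hX₀, Matrix.adjugate_fin_two_of]
    simp [GL2Classes.comp, Matrix.trace_fin_two, Matrix.mul_apply, Fin.sum_univ_two]
    ring

end CfsgLib.Sp4CC
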