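import Cfsg.Agent.Lib.Sp4CC.Mat
import Cfsg.Agent.Lib.Sp4CC.Two

/-!
Products of two conjugates of a fixed element.
-/

set_option autoImplicit false

namespace CfsgLib.Sp4CC

variable {G : Type*} [Group G]

/-- `g` is a product of two conjugates of `x`. -/
def Good (x g : G) : Prop := ∃ y z, IsConj x y ∧ IsConj x z ∧ g = y * z

theorem conj_isConj (k y : G) : IsConj y (k * y * k⁻¹) := isConj_iff.mpr ⟨k, rfl⟩

theorem Good.conj {x g : G} (h : Good x g) (k : G) : Good x (k * g * k⁻¹) := by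
  obtain ⟨y, z, hy, hz, rfl⟩ := h
  exact ⟨k * y * k⁻¹, k * z * k⁻¹, hy.trans (conj_isConj k y), hz.trans (conj_isConj k z), by group⟩

theorem Good.of_conj {x g : G} (k : G) (h : Good x (k * g * k⁻¹)) : Good x g := by
  have := h.conj k⁻¹
  rwa [show k⁻¹ * (k * g * k⁻¹) * k⁻¹⁻¹ = g by group] at this

/-- Conjugacy is transported by the transpose. -/
theorem isConj_tr {F : Type*} [Field F] {g h : Matrix.symplecticGroup (Fin 2) F} (e : IsConj g h) :
    IsConj (tr g) (tr h) := by
  obtain ⟨c, rfl⟩ := isConj_iff.mp e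
  refine isConj_iff.mpr ⟨(tr c)⁻¹, ?_⟩
  rw [tr_mul, tr_mul, tr_inv, inv_inv, mul_assoc]

/-- An element without unipotent powers has order prime to `p`. -/
theorem not_dvd_orderOf {p : ℕ} [Fact p.Prime] {H : Type*} [Group H] [Finite G] (π : G →* H) {x : G}
    (h : ∀ k : ℕ, (x ^ k) ^ p = 1 → x ^ k = 1) : ¬ p ∣ orderOf (π x) := by
  intro hd
  obtain ⟨k, hk⟩ := hd.trans (orderOf_map_dvd π x)
  have hxp : (x ^ k) ^ p = 1 := by rw [← pow_mul, mul_comm, ← hk, pow_orderOf_eq_one]
  have h1 : orderOf x ∣ k := orderOf_dvd_of_pow_eq_one (h k hxp)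
  have hpos : 0 < k := by
    rcases Nat.eq_zero_or_pos k with rfl | h0
    · exact absurd hk (by simpa using (orderOf_pos x).ne')
    · exact h0
  have := Nat.le_of_dvd hpos h1
  rw [hk] at this
  have hp := (Fact.out : p.Prime).two_le
  nlinarith

end CfsgLib.Sp4CC
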