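import Cfsg.Agent.Lib.Sp4CC.Common

/-!
Characteristic two: the class of a regular element of the Levi factor `F* × SL₂(F)` of a line
stabiliser, whose square covers the non-central elements.
-/

set_option autoImplicit false

namespace CfsgLib.Sp4CC

open Matrix

variable {F : Type*} [Field F]

local notation "M2" => Matrix (Fin 2) (Fin 2) F
local notation "M4" => Matrix (Fin 2 ⊕ Fin 2) (Fin 2 ⊕ Fin 2) F
local notation "Sp4" => Matrix.symplecticGroup (Fin 2) F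
local notation "S2" => Matrix.SpecialLinearGroup (Fin 2) F

theorem upper (b : Fˣ) (Z : S2) (hb : (b : F) ^ 2 ≠ 1)
    (hd : (b : F) ^ 2 - b * Z.1.trace + 1 ≠ 0) (r s c : F) :
    IsConj (LV b Z) (LV b Z * Uu r s c) := by
  set d := (b : F) ^ 2 - b * Z.1.trace + 1 with hd'
  have hZ := det_eq_one Z
  rw [Matrix.trace_fin_two] at hd'
  set r' := (b : F) * (r * (Z.1 1 1 - b) - s * Z.1 1 0) / d with hr'
  set s' := (b : F) * (-r * Z.1 0 1 + s * (Z.1 0 0 - b)) / d with hs'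
  set c' := (b : F) ^ 2 * (c + r * s' - s * r') / (1 - (b : F) ^ 2) with hc'
  have hb' : 1 - (b : F) ^ 2 ≠ 0 := sub_ne_zero.mpr (Ne.symm hb)
  have hrd : r' * d = (b : F) * (r * (Z.1 1 1 - b) - s * Z.1 1 0) := by rw [hr', div_mul_cancel₀ _ hd]
  have hsd : s' * d = (b : F) * (-r * Z.1 0 1 + s * (Z.1 0 0 - b)) := by rw [hs', div_mul_cancel₀ _ hd]
  have h0 : r' * Z.1 0 0 + s' * Z.1 1 0 = b * (r + r') := by
    refine mul_right_cancel₀ hd ?_
    linear_combination (Z.1 0 0 - b) * hrd + Z.1 1 0 * hsd + (b : F) * r * hZ - (b : F) * r * hd'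
  have h1 : r' * Z.1 0 1 + s' * Z.1 1 1 = b * (s + s') := by
    refine mul_right_cancel₀ hd ?_
    linear_combination Z.1 0 1 * hrd + (Z.1 1 1 - b) * hsd + (b : F) * s * hZ - (b : F) * s * hd'
  have hcd : (b : F) ^ 2 * (c + c' + r * s' - s * r') = c' := by
    have : c' * (1 - (b : F) ^ 2) = (b : F) ^ 2 * (c + r * s' - s * r') := by
      rw [hc', div_mul_cancel₀ _ hb']
    linear_combination -this
  refine isConj_iff.mpr ⟨Uu r' s' c', ?_⟩
  rw [mul_inv_eq_iff_eq_mul, mul_assoc, Uu_mul, LV_Uu b Z _ h0 h1, hcd]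

theorem lower (b : Fˣ) (Z : S2) (hb : (b : F) ^ 2 ≠ 1)
    (hd : (b : F) ^ 2 - b * Z.1.trace + 1 ≠ 0) (r s c : F) :
    IsConj (LV b Z) (Lw r s c * LV b Z) := by
  set ZT : S2 := ⟨Z.1ᵀ, by rw [Matrix.det_transpose]; exact Z.2⟩ with hZT
  have h := isConj_tr (upper b ZT hb (by
    rw [show ZT.1 = Z.1ᵀ from rfl, Matrix.trace_transpose]; exact hd) r s c)
  have e : tr (LV b ZT) = LV b Z := by
    have : tr (LV b Z) = LV b ZT := tr_LV b Z
    rw [← this, tr_tr]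
  rw [tr_mul, e] at h
  exact h

/-- The Weyl element of the first coordinate. -/
def wE : Sp4 := ⟨m4 0 0 (-1) 0 0 1 0 0 1 0 0 0 0 0 0 1, mem_of _ (by
  rw [J_eq, m4_transpose, m4_mul, m4_mul, m4_inj]
  refine ⟨⟨?_, ?_, ?_, ?_⟩, ⟨?_, ?_, ?_, ?_⟩, ⟨?_, ?_, ?_, ?_⟩, ⟨?_, ?_, ?_, ?_⟩⟩ <;> ring)⟩

theorem wE_LV (b : Fˣ) (Z : S2) : wE * LV b Z * (wE : Sp4)⁻¹ = LV b⁻¹ Z := by
  rw [mul_inv_eq_iff_eq_mul]
  apply Subtype.ext
  show (wE : Sp4).1 * (LV b Z).1 = (LV b⁻¹ Z).1 * (wE : Sp4).1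
  rw [show (wE : Sp4).1 = m4 0 0 (-1) 0 0 1 0 0 1 0 0 0 0 0 0 1 from rfl, LV_val, LV_val, m4_mul, m4_mul,
    m4_inj, inv_inv]
  refine ⟨⟨?_, ?_, ?_, ?_⟩, ⟨?_, ?_, ?_, ?_⟩, ⟨?_, ?_, ?_, ?_⟩, ⟨?_, ?_, ?_, ?_⟩⟩ <;> ring

variable [Finite F] [CharP F 2]

theorem exists_sq (c : F) : ∃ r : F, r ^ 2 = c := by
  obtain ⟨r, hr⟩ := FiniteField.isSquare_of_char_two (ringChar.eq F 2) c
  exact ⟨r, by rw [hr, pow_two]⟩

theorem sq_inj {x y : F} (h : x ^ 2 = y ^ 2) : x = y :=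
  frobenius_inj F 2 (by rw [frobenius_def, frobenius_def]; exact h)

theorem not_scalar {M : M2} (h : M.trace ≠ 0) (c : F) : M ≠ c • (1 : M2) := fun e => h (by
  rw [e, Matrix.trace_fin_two]
  simp
  exact CharTwo.add_self_eq_zero c)

variable (a : Fˣ)

/-- The companion element of `SL₂`. -/
def cS (t : F) : S2 := ⟨GL2Classes.comp t 1, GL2Classes.det_comp _ _⟩

/-- The regular element. -/
def xLine : Sp4 := LV a (cS (a : F))

theorem isConj_LV {b : Fˣ} (hb : b = a ∨ b = a⁻¹) (Z : S2) (hZ : Z.1.trace = a) :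
    IsConj (xLine a) (LV b Z) := by
  have h1 : IsConj (xLine a) (LV a Z) := by
    obtain ⟨P, hP⟩ := conj_of_trace (τ := (a : F)) (d := 1)
      (fun Δ _ => by obtain ⟨r, hr⟩ := exists_sq Δ; exact ⟨r, 0, by rw [← hr]; ring⟩)
      (GL2Classes.comp_ne_scalar _ _) (fun c => not_scalar (by rw [hZ]; exact a.ne_zero) c)
      (GL2Classes.trace_comp _ _) (GL2Classes.det_comp _ _) hZ Z.2
    refine isConj_iff.mpr ⟨LV 1 P, ?_⟩
    rw [xLine, mul_inv_eq_iff_eq_mul, LV_mul, LV_mul, one_mul, mul_one]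
    congr 1
    exact Subtype.ext hP
  rcases hb with rfl | rfl
  · exact h1
  · exact h1.trans (isConj_iff.mpr ⟨wE, wE_LV a Z⟩)

theorem good_of_pair (ha : a ≠ 1) (M Y₁ Y₂ : S2) (h₁ : Y₁.1.trace = a) (h₂ : Y₂.1.trace = a)
    (hM : M = Y₁ * Y₂) (r s c r' s' c' : F) :
    Good (xLine a) (Lw r s c * LV 1 M * Uu r' s' c') := by
  have ha2 : (a : F) ^ 2 ≠ 1 := fun e => ha (Units.ext (sq_inj (by rw [e, Units.val_one, one_pow])))
  refine ⟨Lw r s c * LV a Y₁, LV a⁻¹ Y₂ * Uu r' s' c',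
    (isConj_LV a (Or.inl rfl) Y₁ h₁).trans (lower a Y₁ ha2 (by rw [h₁]; simp [pow_two]) r s c),
    (isConj_LV a (Or.inr rfl) Y₂ h₂).trans (upper a⁻¹ Y₂ ?_ ?_ r' s' c'), ?_⟩
  · rw [Units.val_inv_eq_inv_val, inv_pow]
    exact fun e => ha2 (inv_eq_one.mp e)
  · rw [h₂, Units.val_inv_eq_inv_val, inv_mul_cancel₀ a.ne_zero, sub_add_cancel]
    exact pow_ne_zero _ (inv_ne_zero a.ne_zero)
  · rw [hM, show LV (1 : Fˣ) (Y₁ * Y₂) = LV a Y₁ * LV a⁻¹ Y₂ by rw [LV_mul, mul_inv_cancel]]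
    simp only [mul_assoc]

theorem good_M (ha : a ≠ 1) (M : S2) (hM : M = 1 ∨ M.1.trace ≠ 0) (r s c r' s' c' : F) :
    Good (xLine a) (Lw r s c * LV 1 M * Uu r' s' c') := by
  rcases hM with rfl | ht
  · obtain ⟨Y, hY⟩ : ∃ Y : S2, Y.1 = GL2Classes.comp (a : F) 1 :=
      ⟨⟨_, GL2Classes.det_comp _ _⟩, rfl⟩
    refine good_of_pair a ha _ Y Y⁻¹ ?_ ?_ (mul_inv_cancel Y).symm r s c r' s' c'
    · rw [hY]; exact GL2Classes.trace_comp _ _
    · rw [Matrix.SpecialLinearGroup.coe_inv, hY, GL2Classes.comp, Matrix.adjugate_fin_two_of,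
        Matrix.trace_fin_two_of, add_zero]
  · obtain ⟨x, hx⟩ := exists_sq (M.1.trace)⁻¹
    obtain ⟨X, tX, dX, wX⟩ := frame (L := M.1) (fun c => not_scalar ht c) (x := x) (y := x)
      (z := (a : F) + x - x * M.1.trace) (τ := (a : F))
    have h2 : (2 : F) = 0 := CharTwo.two_eq_zero
    have hx1 : x ^ 2 * M.1.trace = 1 := by rw [hx, inv_mul_cancel₀ ht]
    have hX1 : X.det = 1 := by rw [dX]; linear_combination hx1 - x ^ 2 * h2
    obtain ⟨Y₁, hY₁⟩ : ∃ Y₁ : S2, Y₁.1 = X := ⟨⟨X, hX1⟩, rfl⟩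
    refine good_of_pair a ha _ Y₁ (Y₁⁻¹ * M) (by rw [hY₁]; exact tX) ?_
      (mul_inv_cancel_left _ _).symm r s c r' s' c'
    rw [Matrix.SpecialLinearGroup.coe_mul, Matrix.SpecialLinearGroup.coe_inv, hY₁, wX, M.2]
    ring

theorem good_line (ha : a ≠ 1) (g : Sp4) (hg : ∀ r : F, g.1 ≠ r • (1 : M4)) : Good (xLine a) g := by
  obtain ⟨k₀, r, s, c, r', s', c', M, hne, hk₀⟩ := normal_form g hg
  refine Good.of_conj k₀ ?_
  rw [hk₀]
  by_cases ht : M.1.trace ≠ 0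
  · exact good_M a ha M (Or.inr ht) r s c r' s' c'
  push Not at ht
  have hM := det_eq_one M
  rw [Matrix.trace_fin_two] at ht
  have h2 : (2 : F) = 0 := CharTwo.two_eq_zero
  have hm : M.1 1 1 = M.1 0 0 := (CharTwo.add_eq_zero.mp ht).symm
  have hsq : (M.1 0 0 - 1) ^ 2 = M.1 0 1 * M.1 1 0 := by
    rw [hm] at hM
    linear_combination hM + (1 - M.1 0 0) * h2
  have hMM : M * M = 1 := by
    apply Subtype.ext
    show M.1 * M.1 = 1
    ext i j
    fin_cases i <;> fin_cases j <;> simp [Matrix.mul_apply, Fin.sum_univ_two, hm] <;>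
      first
        | linear_combination hsq + (M.1 0 0 - 1) * h2 + M.1 0 1 * M.1 1 0 * h2
        | linear_combination M.1 0 1 * M.1 0 0 * h2
        | linear_combination M.1 1 0 * M.1 0 0 * h2
  have finish : ∀ ρ σ γ : F, ρ * r + γ * c + σ * s = 0 →
      (∀ N : S2, N.1 0 0 = 1 + σ * s - (r + σ * c) * (ρ + γ * s) →
        N.1 0 1 = -σ * r - (r + σ * c) * (σ - γ * r) →
        N.1 1 0 = -ρ * s - (s - ρ * c) * (ρ + γ * s) →
        N.1 1 1 = 1 + ρ * r - (s - ρ * c) * (σ - γ * r) → N * M = 1 ∨ (N * M).1.trace ≠ 0) →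
      Good (xLine a) (Lw r s c * LV 1 M * Uu r' s' c') := by
    intro ρ σ γ h hN
    obtain ⟨k, r1, s1, c1, r2, s2, c2, N, hk, e00, e01, e10, e11⟩ := shift M r s c r' s' c' ρ σ γ h
    refine Good.of_conj k ?_
    rw [hk]
    exact good_M a ha _ (hN N e00 e01 e10 e11) _ _ _ _ _ _
  have isM : ∀ N : S2, N.1 0 0 = M.1 0 0 → N.1 0 1 = M.1 0 1 → N.1 1 0 = M.1 1 0 → N.1 1 1 = M.1 1 1 →
      N * M = 1 := fun N a b c d => by
    rw [show N = M from Subtype.ext (by ext i j; fin_cases i <;> fin_cases j <;> assumption), hMM]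
  by_cases hv : r = 0 ∧ s = 0
  · obtain ⟨rfl, rfl⟩ := hv
    have hc : c ≠ 0 := by simpa using hne
    obtain ⟨σ, hσ⟩ := exists_sq (M.1 0 1 / c)
    obtain ⟨ρ, hρ⟩ := exists_sq (M.1 1 0 / c)
    have eσ : c * σ ^ 2 = M.1 0 1 := by rw [hσ, mul_div_cancel₀ _ hc]
    have eρ : c * ρ ^ 2 = M.1 1 0 := by rw [hρ, mul_div_cancel₀ _ hc]
    have em : c * ρ * σ = M.1 0 0 - 1 := sq_inj (by rw [hsq, ← eσ, ← eρ]; ring)
    refine finish ρ σ 0 (by ring) fun N a b c' d => Or.inl (isM N ?_ ?_ ?_ ?_)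
    · rw [a]; linear_combination em - c * ρ * σ * h2
    · rw [b]; linear_combination eσ - c * σ ^ 2 * h2
    · rw [c']; linear_combination eρ
    · rw [d, hm]; linear_combination em
  have hex : ∀ μ : F, ∃ ρ σ γ : F, ρ * r + γ * c + σ * s = 0 ∧
      1 + σ * s - (r + σ * c) * (ρ + γ * s) = 1 - μ * r * s ∧
      -σ * r - (r + σ * c) * (σ - γ * r) = μ * r ^ 2 ∧
      -ρ * s - (s - ρ * c) * (ρ + γ * s) = -μ * s ^ 2 ∧
      1 + ρ * r - (s - ρ * c) * (σ - γ * r) = 1 + μ * r * s := by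
    intro μ
    by_cases hc : c = 0
    · subst hc
      exact ⟨0, 0, μ, by ring, by ring, by ring, by ring, by ring⟩
    · obtain ⟨κ, hκ⟩ := exists_sq (-μ / c)
      have e : 2 * κ - κ ^ 2 * c = μ := by
        rw [hκ, div_mul_cancel₀ _ hc]; linear_combination κ * h2
      exact ⟨κ * s, -κ * r, 0, by ring, by linear_combination (-r * s) * e,
        by linear_combination r ^ 2 * e, by linear_combination -s ^ 2 * e,
        by linear_combination (r * s) * e⟩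
  by_cases hG : r ^ 2 * M.1 1 0 - s ^ 2 * M.1 0 1 = 0
  · obtain ⟨μ, e1, e2⟩ : ∃ μ, μ * r ^ 2 = M.1 0 1 ∧ μ * s ^ 2 = M.1 1 0 := by
      by_cases hr : r = 0
      · subst hr
        have hs : s ≠ 0 := fun h => hv ⟨rfl, h⟩
        refine ⟨M.1 1 0 / s ^ 2, ?_, div_mul_cancel₀ _ (pow_ne_zero _ hs)⟩
        have h0 : s ^ 2 * M.1 0 1 = 0 := by linear_combination -hG
        rw [(mul_eq_zero.mp h0).resolve_left (pow_ne_zero _ hs)]
        ring
      · refine ⟨M.1 0 1 / r ^ 2, div_mul_cancel₀ _ (pow_ne_zero _ hr), ?_⟩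
        field_simp
        linear_combination -hG
    have em : μ * r * s = M.1 0 0 - 1 := sq_inj (by rw [hsq, ← e1, ← e2]; ring)
    obtain ⟨ρ, σ, γ, h, q00, q01, q10, q11⟩ := hex μ
    refine finish ρ σ γ h fun N a b c' d => Or.inl (isM N ?_ ?_ ?_ ?_)
    · rw [a, q00]; linear_combination em - μ * r * s * h2
    · rw [b, q01, e1]
    · rw [c', q10]; linear_combination e2 - μ * s ^ 2 * h2
    · rw [d, q11, hm]; linear_combination em
  · obtain ⟨ρ, σ, γ, h, q00, q01, q10, q11⟩ := hex 1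
    refine finish ρ σ γ h fun N a b c' d => Or.inr ?_
    rw [Matrix.SpecialLinearGroup.coe_mul, Matrix.trace_fin_two]
    simp only [Matrix.mul_apply, Fin.sum_univ_two]
    rw [a, b, c', d, q00, q01, q10, q11, hm]
    intro e
    exact hG (by linear_combination e - M.1 0 0 * h2)

theorem order_line (ha : a ≠ 1) (k : ℕ) (h : (xLine a ^ k) ^ 2 = 1) : xLine a ^ k = 1 := by
  set Y : S2 := cS (a : F) with hY
  have e : xLine a ^ k = LV (a ^ k) (Y ^ k) := (map_pow LVhom (a, Y) k).symm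
  rw [e] at h ⊢
  rw [pow_two, LV_mul] at h
  have h' := congrArg Subtype.val (h.trans LV_one.symm)
  rw [LV_val, LV_val, m4_inj] at h'
  obtain ⟨⟨ha1, -⟩, ⟨-, p00, -, p01⟩, -, ⟨-, p10, -, p11⟩⟩ := h'
  have hak : a ^ k = 1 := Units.ext (sq_inj (by rw [pow_two, ← Units.val_mul, ha1]; simp))
  have hYk : ((GL2Classes.comp (a : F) 1) ^ k) ^ 2 = 1 := by
    rw [← show (Y ^ k * Y ^ k).1 = ((GL2Classes.comp (a : F) 1) ^ k) ^ 2 by
      rw [Matrix.SpecialLinearGroup.coe_mul, Matrix.SpecialLinearGroup.coe_pow, pow_two]; rfl]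
    ext i j
    fin_cases i <;> fin_cases j <;> simp_all
  have := ss_pow (p := 2) (GL2Classes.trace_comp _ _) (GL2Classes.det_comp _ _)
    (by rw [mul_one, show (4 : F) = 2 * 2 by norm_num, CharTwo.two_eq_zero (R := F), mul_zero, sub_zero]
        exact pow_ne_zero _ a.ne_zero) hYk
  rw [hak, show Y ^ k = 1 from Subtype.ext (by rw [Matrix.SpecialLinearGroup.coe_pow]; exact this), LV_one]

end CfsgLib.Sp4CC
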