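import Cfsg.Agent.Lib.Sp4CC.Common

/-!
Odd characteristic: the class of a regular element of determinant `-1` of the Levi factor `GL₂(F)`
of a Lagrangian stabiliser, whose square covers the non-central elements.
-/

set_option autoImplicit false

namespace CfsgLib.Sp4CC

open Matrix Polynomial

variable {F : Type*} [Field F]

local notation "M2" => Matrix (Fin 2) (Fin 2) F
local notation "M4" => Matrix (Fin 2 ⊕ Fin 2) (Fin 2 ⊕ Fin 2) F
local notation "Sp4" => Matrix.symplecticGroup (Fin 2) F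
local notation "S2" => Matrix.SpecialLinearGroup (Fin 2) F

/-- Upper Siegel elements. -/
def Up (T : M2) (hT : Tᵀ = T) : Sp4 := ⟨Matrix.fromBlocks 1 T 0 1, mem_of _ (by
  rw [Matrix.fromBlocks_transpose, Matrix.J, Matrix.fromBlocks_multiply, Matrix.fromBlocks_multiply]
  simp [hT])⟩

/-- The Levi factor. -/
def Lev (A : GL (Fin 2) F) : Sp4 := ⟨Matrix.fromBlocks A.1 0 0 ((A⁻¹).1)ᵀ, mem_of _ (by
  rw [Matrix.fromBlocks_transpose, Matrix.J, Matrix.fromBlocks_multiply, Matrix.fromBlocks_multiply]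
  simp [Matrix.transpose_transpose, ← Matrix.transpose_mul, Matrix.fromBlocks_inj])⟩

theorem Lev_mul (A B : GL (Fin 2) F) : Lev (A * B) = Lev A * Lev B := by
  apply Subtype.ext
  show _ = (Lev A).1 * (Lev B).1
  simp only [Lev]
  rw [Matrix.fromBlocks_multiply]
  simp [Matrix.transpose_mul]

/-- The Levi factor as a homomorphism. -/
def Levhom : GL (Fin 2) F →* Sp4 :=
  MonoidHom.mk' Lev Lev_mul

theorem tr_Lev (A B : GL (Fin 2) F) (h : B.1 = A.1ᵀ) : tr (Lev A) = Lev B := by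
  apply Subtype.ext
  have hB : (B⁻¹).1 = ((A⁻¹).1)ᵀ := by
    refine Units.inv_eq_of_mul_eq_one_left ?_
    rw [h, ← Matrix.transpose_mul, Units.mul_inv, Matrix.transpose_one]
  show (Matrix.fromBlocks A.1 0 0 ((A⁻¹).1)ᵀ)ᵀ = _
  simp [Lev, Matrix.fromBlocks_transpose, h, hB]

/-- An element with invertible corner block. -/
theorem block_decompose (g : Sp4) (L : GL (Fin 2) F) (hL : g.1.toBlocks₁₁ = L.1) :
    ∃ (S T : M2) (hS : Sᵀ = S) (hT : Tᵀ = T), g = tr (Up S hS) * Lev L * Up T hT := by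
  obtain ⟨A, B, C, D, hg⟩ : ∃ A B C D, g.1 = Matrix.fromBlocks A B C D :=
    ⟨_, _, _, _, (Matrix.fromBlocks_toBlocks g.1).symm⟩
  obtain rfl : A = L.1 := by rw [← hL, hg, Matrix.toBlocks_fromBlocks₁₁]
  have e : g.1ᵀ * Matrix.J (Fin 2) F * g.1 = Matrix.J (Fin 2) F := SymplecticGroup.mem_iff'.mp g.2
  rw [hg, Matrix.fromBlocks_transpose, Matrix.J, Matrix.fromBlocks_multiply, Matrix.fromBlocks_multiply,
    Matrix.fromBlocks_inj] at e
  simp only [Matrix.mul_zero, Matrix.mul_one, Matrix.mul_neg, Matrix.neg_mul, zero_add, add_zero] at e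
  obtain ⟨e1, -, e3, e4⟩ := e
  have hS1 : (L.1)ᵀ * C = Cᵀ * L.1 := by linear_combination (norm := abel) -e1
  set S := C * (L⁻¹).1 with hS'
  have hS : Sᵀ = S := by
    rw [hS', Matrix.transpose_mul]
    calc ((L⁻¹).1)ᵀ * Cᵀ = ((L⁻¹).1)ᵀ * (Cᵀ * L.1) * (L⁻¹).1 := by simp [Matrix.mul_assoc]
      _ = (((L⁻¹).1)ᵀ * (L.1)ᵀ) * (C * (L⁻¹).1) := by rw [← hS1]; simp [Matrix.mul_assoc]
      _ = _ := by rw [← Matrix.transpose_mul, Units.mul_inv, Matrix.transpose_one, Matrix.one_mul]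
  set T := (L⁻¹).1 * B with hT'
  have hBD : Bᵀ * D = Dᵀ * B := by linear_combination (norm := abel) -e4
  have hD : D - S * B = ((L⁻¹).1)ᵀ := by
    have h1 : (L.1)ᵀ * D - Cᵀ * B = 1 := by
      have h2 := congrArg Matrix.transpose e3
      rw [Matrix.transpose_add, Matrix.transpose_neg, Matrix.transpose_mul, Matrix.transpose_mul,
        Matrix.transpose_transpose, Matrix.transpose_transpose, Matrix.transpose_one] at h2
      linear_combination (norm := abel) h2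
    have h2 : (L.1)ᵀ * (D - S * B) = 1 := by
      rw [Matrix.mul_sub, ← h1, hS', ← Matrix.mul_assoc, ← Matrix.mul_assoc, hS1]
      simp [Matrix.mul_assoc]
    calc D - S * B = ((L⁻¹).1)ᵀ * ((L.1)ᵀ * (D - S * B)) := by
          rw [← Matrix.mul_assoc, ← Matrix.transpose_mul, Units.mul_inv, Matrix.transpose_one, Matrix.one_mul]
      _ = _ := by rw [h2, Matrix.mul_one]
  have hT : Tᵀ = T := by
    have h3 : Bᵀ * (D - S * B) = (D - S * B)ᵀ * B := by
      rw [Matrix.mul_sub, Matrix.transpose_sub, Matrix.sub_mul, hBD, Matrix.transpose_mul S, hS,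
        ← Matrix.mul_assoc]
    rw [hD, Matrix.transpose_transpose] at h3
    rw [hT', Matrix.transpose_mul, h3]
  refine ⟨S, T, hS, hT, Subtype.ext ?_⟩
  show g.1 = (Matrix.fromBlocks 1 S 0 1)ᵀ * Matrix.fromBlocks L.1 0 0 ((L⁻¹).1)ᵀ * Matrix.fromBlocks 1 T 0 1
  rw [hg, Matrix.fromBlocks_transpose, Matrix.fromBlocks_multiply, Matrix.fromBlocks_multiply,
    Matrix.fromBlocks_inj, hS]
  have e2 : L.1 * T = B := by rw [hT', ← Matrix.mul_assoc, Units.mul_inv, Matrix.one_mul]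
  have e5 : S * L.1 = C := by rw [hS', Matrix.mul_assoc, Units.inv_mul, Matrix.mul_one]
  simp [e2, e5]
  rw [← Matrix.coe_units_inv, ← hD, ← e5, Matrix.mul_assoc, e2]
  abel

variable [Fintype F]

theorem norm_surj (hF : ringChar F ≠ 2) {τ : F} (hτ : τ ^ 2 + 4 ≠ 0) (Δ : F) :
    ∃ x y : F, x ^ 2 + τ * x * y + (-1) * y ^ 2 = Δ := by
  have h2 : (2 : F) ≠ 0 := Ring.two_ne_zero hF
  obtain ⟨w, rfl⟩ : ∃ w, τ = 2 * w := ⟨τ / 2, by field_simp⟩
  have hc : -(w ^ 2 + 1) ≠ 0 := fun e => hτ (by linear_combination -4 * e)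
  obtain ⟨u, y, h⟩ := FiniteField.exists_root_sum_quadratic
    (f := Polynomial.C (1 : F) * X ^ 2 + Polynomial.C 0 * X + Polynomial.C 0)
    (g := Polynomial.C (-(w ^ 2 + 1)) * X ^ 2 + Polynomial.C 0 * X + Polynomial.C (-Δ))
    (Polynomial.degree_quadratic one_ne_zero) (Polynomial.degree_quadratic hc)
    (FiniteField.odd_card_of_char_ne_two hF)
  simp at h
  exact ⟨u - w * y, y, by linear_combination h⟩

variable (τ : F)

/-- The regular element. -/
noncomputable def xSieg : Sp4 :=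
  Lev (Matrix.GeneralLinearGroup.mkOfDetNeZero (GL2Classes.comp τ (-1))
    (by rw [GL2Classes.det_comp]; exact neg_ne_zero.mpr one_ne_zero))

theorem isConj_Lev (hF : ringChar F ≠ 2) (hτ : τ ^ 2 + 4 ≠ 0) (A : GL (Fin 2) F) (dA : A.1.det = -1)
    (tA : A.1.trace = τ ∨ A.1.trace = -τ) : IsConj (xSieg τ) (Lev A) := by
  have ns : ∀ X : M2, X.det = -1 → X.trace = τ → ∀ c : F, X ≠ c • (1 : M2) := fun X hd ht c e => by
    subst e
    simp [Matrix.det_fin_two, Matrix.trace_fin_two] at hd ht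
    exact hτ (by rw [← ht]; linear_combination 4 * hd)
  have main : ∀ A : GL (Fin 2) F, A.1.det = -1 → A.1.trace = τ → IsConj (xSieg τ) (Lev A) := by
    intro A dA tA
    obtain ⟨P, hP⟩ := conj_of_trace (fun Δ _ => norm_surj hF hτ Δ) (GL2Classes.comp_ne_scalar τ (-1))
      (ns A.1 dA tA) (GL2Classes.trace_comp _ _) (GL2Classes.det_comp _ _) tA dA
    refine isConj_iff.mpr ⟨Lev (Matrix.SpecialLinearGroup.toGL P), ?_⟩
    rw [mul_inv_eq_iff_eq_mul, xSieg, ← Lev_mul, ← Lev_mul]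
    congr 1
    exact Units.ext hP
  rcases tA with tA | tA
  · exact main A dA tA
  · obtain ⟨B, hB⟩ : ∃ B : GL (Fin 2) F, B.1 = ((A⁻¹).1)ᵀ ∧ (B⁻¹).1 = (A.1)ᵀ :=
      ⟨⟨((A⁻¹).1)ᵀ, (A.1)ᵀ, by rw [← Matrix.transpose_mul, Units.mul_inv, Matrix.transpose_one],
        by rw [← Matrix.transpose_mul, Units.inv_mul, Matrix.transpose_one]⟩, rfl, rfl⟩
    have hinv : (A⁻¹).1 = -A.1.adjugate := by
      refine Units.inv_eq_of_mul_eq_one_left ?_
      rw [Matrix.neg_mul, Matrix.adjugate_mul, dA, neg_smul, neg_neg, one_smul]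
    have h1 := main B (by
      rw [hB.1, Matrix.det_transpose, hinv, Matrix.det_neg, Matrix.det_adjugate, dA]; simp) (by
      rw [hB.1, Matrix.trace_transpose, hinv, Matrix.trace_neg, Matrix.adjugate_fin_two,
        Matrix.trace_fin_two_of]
      rw [Matrix.trace_fin_two] at tA
      linear_combination -tA)
    obtain ⟨J, hJ⟩ : ∃ J : Sp4, J.1 = Matrix.J (Fin 2) F := ⟨⟨_, SymplecticGroup.J_mem _ _⟩, rfl⟩
    refine h1.trans (isConj_iff.mpr ⟨J, ?_⟩)
    rw [mul_inv_eq_iff_eq_mul]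
    apply Subtype.ext
    show J.1 * (Lev B).1 = (Lev A).1 * J.1
    rw [hJ, Matrix.J]
    simp [Lev, Matrix.fromBlocks_multiply, hB.1, hB.2]

theorem Lev_Up (hF : ringChar F ≠ 2) (hτ0 : τ ≠ 0) (A : GL (Fin 2) F) (dA : A.1.det = -1)
    (tA : A.1.trace = τ ∨ A.1.trace = -τ) (T : M2) (hT : Tᵀ = T) :
    IsConj (Lev A) (Lev A * Up T hT) := by
  have hinj : ∀ S : M2, Sᵀ = S → S = A.1 * S * (A.1)ᵀ → S = 0 := by
    intro S hS h
    have hinv : (A⁻¹).1 = A.1 - A.1.trace • (1 : M2) := by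
      refine Units.inv_eq_of_mul_eq_one_left ?_
      rw [Matrix.det_fin_two] at dA
      ext i j
      fin_cases i <;> fin_cases j <;> simp [Matrix.mul_apply, Fin.sum_univ_two, Matrix.trace_fin_two] <;>
        first
          | ring1
          | linear_combination -dA
          | linear_combination dA
    have h1 : S * ((A⁻¹).1)ᵀ = A.1 * S := by
      conv_lhs => rw [h]
      rw [Matrix.mul_assoc, ← Matrix.transpose_mul, Units.inv_mul, Matrix.transpose_one, Matrix.mul_one]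
    rw [hinv, Matrix.transpose_sub, Matrix.transpose_smul, Matrix.transpose_one, Matrix.mul_sub,
      Matrix.mul_smul, Matrix.mul_one] at h1
    have h2 := congrArg Matrix.transpose h1
    rw [Matrix.transpose_sub, Matrix.transpose_mul, Matrix.transpose_transpose, Matrix.transpose_smul,
      Matrix.transpose_mul, hS] at h2
    have h3 : (2 * A.1.trace) • S = 0 := by
      rw [two_mul, add_smul]
      linear_combination (norm := abel) -h1 - h2
    have h20 : (2 : F) * A.1.trace ≠ 0 :=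
      mul_ne_zero (Ring.two_ne_zero hF) (by rcases tA with e | e <;> rw [e] <;> simp [hτ0])
    exact (smul_eq_zero.mp h3).resolve_left h20
  let Sym := {S : M2 // Sᵀ = S}
  let f : Sym → Sym := fun S => ⟨S.1 - A.1 * S.1 * (A.1)ᵀ, by
    rw [Matrix.transpose_sub, Matrix.transpose_mul, Matrix.transpose_mul, Matrix.transpose_transpose, S.2,
      Matrix.mul_assoc]⟩
  have fi : Function.Injective f := by
    intro S S' h
    have h' := congrArg Subtype.val h
    apply Subtype.ext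
    refine sub_eq_zero.mp (hinj _ (by rw [Matrix.transpose_sub, S.2, S'.2]) ?_)
    simp only [f] at h'
    rw [Matrix.mul_sub, Matrix.sub_mul]
    linear_combination (norm := abel) h'
  obtain ⟨⟨S, hS⟩, hfS⟩ := Finite.surjective_of_injective fi ⟨A.1 * T * (A.1)ᵀ, by
    rw [Matrix.transpose_mul, Matrix.transpose_mul, Matrix.transpose_transpose, hT, Matrix.mul_assoc]⟩
  have hfS' : S - A.1 * S * (A.1)ᵀ = A.1 * T * (A.1)ᵀ := congrArg Subtype.val hfS
  refine isConj_iff.mpr ⟨Up S hS, ?_⟩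
  rw [mul_inv_eq_iff_eq_mul]
  apply Subtype.ext
  show (Up S hS).1 * (Lev A).1 = (Lev A).1 * (Up T hT).1 * (Up S hS).1
  simp only [Up, Lev, Matrix.fromBlocks_multiply]
  simp only [Matrix.mul_one, Matrix.one_mul, Matrix.mul_zero, Matrix.zero_mul, add_zero, zero_add]
  rw [Matrix.fromBlocks_inj]
  refine ⟨rfl, ?_, rfl, rfl⟩
  have h4 : S = A.1 * (T + S) * (A.1)ᵀ := by
    rw [Matrix.mul_add, Matrix.add_mul, ← hfS', sub_add_cancel]
  conv_lhs => rw [h4]
  rw [Matrix.mul_assoc, ← Matrix.transpose_mul, Units.inv_mul, Matrix.transpose_one, Matrix.mul_one,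
    Matrix.mul_add]
  abel

theorem good_of_pair' (hF : ringChar F ≠ 2) (hτ0 : τ ≠ 0) (hτ : τ ^ 2 + 4 ≠ 0)
    (g : Sp4) (A₁ A₂ : GL (Fin 2) F) (d₁ : A₁.1.det = -1) (d₂ : A₂.1.det = -1)
    (t₁ : A₁.1.trace = τ ∨ A₁.1.trace = -τ) (t₂ : A₂.1.trace = τ ∨ A₂.1.trace = -τ)
    (h : g.1.toBlocks₁₁ = A₁.1 * A₂.1) : Good (xSieg τ) g := by
  obtain ⟨S, T, hS, hT, rfl⟩ := block_decompose g (A₁ * A₂) h
  refine ⟨tr (Up S hS) * Lev A₁, Lev A₂ * Up T hT, ?_,
    (isConj_Lev τ hF hτ A₂ d₂ t₂).trans (Lev_Up τ hF hτ0 A₂ d₂ t₂ T hT), ?_⟩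
  · obtain ⟨B, hB⟩ : ∃ B : GL (Fin 2) F, B.1 = (A₁.1)ᵀ :=
      ⟨Matrix.GeneralLinearGroup.mkOfDetNeZero (Matrix.transpose A₁.1)
        (by erw [Matrix.det_transpose, d₁]; exact neg_ne_zero.mpr one_ne_zero), rfl⟩
    have dB : B.1.det = -1 := by rw [hB, Matrix.det_transpose, d₁]
    have tB : B.1.trace = τ ∨ B.1.trace = -τ := by rw [hB, Matrix.trace_transpose]; exact t₁
    have h' := isConj_tr (Lev_Up τ hF hτ0 B dB tB S hS)
    rw [tr_mul, tr_Lev B A₁ (by rw [hB, Matrix.transpose_transpose])] at h'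
    exact (isConj_Lev τ hF hτ A₁ d₁ t₁).trans h'
  · rw [Lev_mul]; simp only [mul_assoc]

/-- Every element of `SL₂` is the product of two elements of determinant `-1` and trace `±τ`. -/
theorem exists_pair (hF : ringChar F ≠ 2) (hτ0 : τ ≠ 0) (L : M2) (hL : L.det = 1) :
    ∃ X : M2, X.det = -1 ∧ X.trace = τ ∧
      ((X.adjugate * L).trace = τ ∨ (X.adjugate * L).trace = -τ) := by
  have h2 : (2 : F) ≠ 0 := Ring.two_ne_zero hF
  by_cases hs : ∃ c : F, L = c • (1 : M2)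
  · obtain ⟨c, rfl⟩ := hs
    have hc : c = 1 ∨ c = -1 := by
      rw [Matrix.det_smul, Matrix.det_one, mul_one, Fintype.card_fin] at hL
      exact sq_eq_one_iff.mp hL
    refine ⟨GL2Classes.comp τ (-1), GL2Classes.det_comp _ _, GL2Classes.trace_comp _ _, ?_⟩
    rw [Matrix.mul_smul, Matrix.mul_one, Matrix.trace_smul, GL2Classes.comp, Matrix.adjugate_fin_two_of,
      Matrix.trace_fin_two_of, add_zero, smul_eq_mul]
    rcases hc with rfl | rfl <;> simp
  push Not at hs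
  suffices hx : ∃ x y z : F, x * (τ - x) - y * z = -1 ∧
      (z - y + x * L.trace = τ ∨ z - y + x * L.trace = -τ) by
    obtain ⟨x, y, z, hd, hw⟩ := hx
    obtain ⟨X', tX, dX, wX⟩ := frame hs (x := x) (y := y) (z := z) (τ := τ)
    exact ⟨X', dX.trans hd, tX, by rw [wX, hL, mul_one]; exact hw⟩
  generalize L.trace = t
  by_cases ht : t = 2
  · subst ht
    refine ⟨-1 / (2 * τ), -1 / (2 * τ), -τ + -1 / (2 * τ) - -1 / (2 * τ) * 2, ?_, Or.inr (by ring)⟩
    field_simp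
    ring
  by_cases ht' : t = -2
  · subst ht'
    refine ⟨-1 / (2 * τ), 1 / (2 * τ), τ + 1 / (2 * τ) - -1 / (2 * τ) * -2, ?_, Or.inl (by ring)⟩
    field_simp
    ring
  obtain ⟨w, rfl⟩ : ∃ w, t = 2 * w := ⟨t / 2, by field_simp⟩
  have hc : 1 - w ^ 2 ≠ 0 := by
    intro e
    have : (w - 1) * (w + 1) = 0 := by linear_combination -e
    rcases mul_eq_zero.mp this with e | e
    · exact ht (by linear_combination 2 * e)
    · exact ht' (by linear_combination 2 * e)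
  obtain ⟨u, y, h⟩ := FiniteField.exists_root_sum_quadratic
    (f := Polynomial.C (1 : F) * X ^ 2 + Polynomial.C (-τ) * X + Polynomial.C 0)
    (g := Polynomial.C (1 - w ^ 2) * X ^ 2 + Polynomial.C (τ - τ * w) * X + Polynomial.C (-1))
    (Polynomial.degree_quadratic one_ne_zero) (Polynomial.degree_quadratic hc)
    (FiniteField.odd_card_of_char_ne_two hF)
  simp at h
  exact ⟨u + w * y, y, τ + y - (u + w * y) * (2 * w), by linear_combination -h, Or.inl (by ring)⟩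

theorem good_M' (hF : ringChar F ≠ 2) (hτ0 : τ ≠ 0) (hτ : τ ^ 2 + 4 ≠ 0) (M : S2)
    (hM : M = 1 ∨ ∀ c : F, M.1 ≠ c • (1 : M2)) (r s c r' s' c' : F) :
    Good (xSieg τ) (Lw r s c * LV 1 M * Uu r' s' c') := by
  have key : ∀ (M : S2) (r s c r' s' c' : F), M.1 0 0 = 1 →
      Good (xSieg τ) (Lw r s c * LV 1 M * Uu r' s' c') := by
    intro M r s c r' s' c' h00
    obtain ⟨L, hL⟩ : ∃ L : M2, L = (Lw r s c * LV 1 M * Uu r' s' c').1.toBlocks₁₁ := ⟨_, rfl⟩
    have hv : (Lw r s c * LV 1 M * Uu r' s' c').1 =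
        (Lw r s c).1 * (LV 1 M).1 * (Uu r' s' c').1 := rfl
    have hLd : L.det = 1 := by
      rw [hL, hv, Lw_val, LV_val, Uu_val, m4_mul, m4_mul, m4, Matrix.toBlocks_fromBlocks₁₁,
        Matrix.det_fin_two_of, h00, Units.val_one]
      ring
    obtain ⟨X', dX, tX, tX'⟩ := exists_pair τ hF hτ0 L hLd
    have n1 : (-1 : F) ≠ 0 := neg_ne_zero.mpr one_ne_zero
    obtain ⟨A₁, hA₁⟩ : ∃ A : GL (Fin 2) F, A.1 = X' :=
      ⟨Matrix.GeneralLinearGroup.mkOfDetNeZero X' (by rw [dX]; exact n1), rfl⟩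
    have dY : (-(X'.adjugate * L)).det = -1 := by
      rw [Matrix.det_neg, Matrix.det_mul, Matrix.det_adjugate, dX, hLd]; simp
    obtain ⟨A₂, hA₂⟩ : ∃ A : GL (Fin 2) F, A.1 = -(X'.adjugate * L) :=
      ⟨Matrix.GeneralLinearGroup.mkOfDetNeZero _ (by rw [dY]; exact n1), rfl⟩
    refine good_of_pair' τ hF hτ0 hτ _ A₁ A₂ (by rw [hA₁, dX]) (by rw [hA₂, dY]) (Or.inl (by rw [hA₁, tX]))
      (by
        rw [hA₂, Matrix.trace_neg]
        rcases tX' with e | e <;> rw [e] <;> simp) ?_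
    rw [← hL, hA₁, hA₂, Matrix.mul_neg, ← Matrix.mul_assoc, Matrix.mul_adjugate, dX]
    simp
  rcases hM with rfl | hM
  · exact key 1 r s c r' s' c' (by simp)
  · obtain ⟨P, hP⟩ := conj00 M hM 1
    obtain ⟨t, u, t', u', h⟩ := conj_LV P M r s c r' s' c'
    refine Good.of_conj (LV 1 P) ?_
    rw [h]
    exact key _ _ _ _ _ _ _ hP

theorem good_sieg (hF : ringChar F ≠ 2) (hτ0 : τ ≠ 0) (hτ : τ ^ 2 + 4 ≠ 0) (g : Sp4)
    (hg : ∀ r : F, g.1 ≠ r • (1 : M4)) : Good (xSieg τ) g := by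
  obtain ⟨k₀, r, s, c, r', s', c', M, hne, hk₀⟩ := normal_form g hg
  refine Good.of_conj k₀ ?_
  rw [hk₀]
  by_cases hM : ∀ a : F, M.1 ≠ a • (1 : M2)
  · exact good_M' τ hF hτ0 hτ M (Or.inr hM) r s c r' s' c'
  push Not at hM
  obtain ⟨m, hm⟩ := hM
  have hdet := M.2
  rw [hm, Matrix.det_smul, Matrix.det_one, mul_one, Fintype.card_fin] at hdet
  rcases sq_eq_one_iff.mp hdet with rfl | rfl
  · exact good_M' τ hF hτ0 hτ M (Or.inl (Subtype.ext (by rw [hm, one_smul]; rfl))) r s c r' s' c'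
  have h2 : (2 : F) ≠ 0 := Ring.two_ne_zero hF
  have finish : ∀ ρ σ γ : F, ρ * r + γ * c + σ * s = 0 →
      (-σ * r - (r + σ * c) * (σ - γ * r) ≠ 0 ∨ -ρ * s - (s - ρ * c) * (ρ + γ * s) ≠ 0) →
      Good (xSieg τ) (Lw r s c * LV 1 M * Uu r' s' c') := by
    intro ρ σ γ h hne'
    obtain ⟨k, r1, s1, c1, r2, s2, c2, N, hk, -, e01, e10, -⟩ := shift M r s c r' s' c' ρ σ γ h
    refine Good.of_conj k ?_
    rw [hk]
    refine good_M' τ hF hτ0 hτ _ (Or.inr fun a e => ?_) _ _ _ _ _ _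
    rw [Matrix.SpecialLinearGroup.coe_mul, hm, Matrix.mul_smul, Matrix.mul_one] at e
    have a01 := congrFun (congrFun e 0) 1
    have a10 := congrFun (congrFun e 1) 0
    simp [e01, e10] at a01 a10
    rcases hne' with h' | h'
    · exact h' (by linear_combination -a01)
    · exact h' (by linear_combination -a10)
  by_cases hv : r = 0 ∧ s = 0
  · obtain ⟨rfl, rfl⟩ := hv
    have hc : c ≠ 0 := by simpa using hne
    exact finish 1 0 0 (by ring) (Or.inr fun e => hc (by linear_combination e))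
  obtain ⟨κ, hκ0, hκ⟩ : ∃ κ : F, κ ≠ 0 ∧ κ * c - 2 ≠ 0 := by
    by_cases hc2 : c = 2
    · exact ⟨-1, neg_ne_zero.mpr one_ne_zero, fun e => by
        subst hc2
        have : (2 : F) * 2 = 0 := by linear_combination -e
        exact mul_ne_zero h2 h2 this⟩
    · exact ⟨1, one_ne_zero, by rw [one_mul]; exact sub_ne_zero.mpr hc2⟩
  refine finish (κ * s) (-κ * r) 0 (by ring) ?_
  by_cases hr : r = 0
  · have hs : s ≠ 0 := fun h => hv ⟨hr, h⟩
    refine Or.inr fun e => ?_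
    have : κ * (κ * c - 2) * s ^ 2 = 0 := by linear_combination e
    simp [hκ0, hκ, hs] at this
  · refine Or.inl fun e => ?_
    have : κ * (κ * c - 2) * r ^ 2 = 0 := by linear_combination -e
    simp [hκ0, hκ, hr] at this

theorem order_sieg {p : ℕ} [Fact p.Prime] [CharP F p] (hτ : τ ^ 2 + 4 ≠ 0) (k : ℕ)
    (h : (xSieg τ ^ k) ^ p = 1) : xSieg τ ^ k = 1 := by
  have e : ∀ (A : GL (Fin 2) F) (n : ℕ), Lev A ^ n = Lev (A ^ n) := fun A n => (map_pow Levhom A n).symm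
  rw [xSieg, e, e] at h
  rw [xSieg, e]
  set A : GL (Fin 2) F := Matrix.GeneralLinearGroup.mkOfDetNeZero (GL2Classes.comp τ (-1))
    (by rw [GL2Classes.det_comp]; exact neg_ne_zero.mpr one_ne_zero) with hA
  have h' : ((A ^ k) ^ p).1 = 1 := by
    have := congrArg (fun g : Sp4 => g.1.toBlocks₁₁) h
    simp only [Lev, Matrix.toBlocks_fromBlocks₁₁] at this
    rw [this]
    show Matrix.toBlocks₁₁ (1 : M4) = 1
    rw [← Matrix.fromBlocks_one, Matrix.toBlocks_fromBlocks₁₁]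
  rw [Units.val_pow_eq_pow_val, Units.val_pow_eq_pow_val] at h'
  have := ss_pow (p := p) (GL2Classes.trace_comp τ (-1)) (GL2Classes.det_comp τ (-1))
    (by intro e; exact hτ (by linear_combination e)) (k := k) h'
  rw [show A ^ k = 1 from Units.ext (by rw [Units.val_pow_eq_pow_val]; exact this)]
  exact map_one Levhom

end CfsgLib.Sp4CC
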